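import Mathlib
import Groth.Agent.VarietyLib.AffineNhd
import Groth.Agent.SchLoc.LocalImm

/-!
# Purity of the non-local-isomorphism locus over a factorial target
-/

set_option autoImplicit false

universe u

open CategoryTheory Limits AlgebraicGeometry TopologicalSpace IsLocalRing

namespace Groth.Agent.Pur21Lib

/-- Algebraic core of purity. -/
theorem ringKrullDim_eq_one_of_ufd {A B : Type*} [CommRing A] [IsDomain A] [IsLocalRing A]
    [UniqueFactorizationMonoid A] [CommRing B] [IsDomain B] [IsLocalRing B] [IsNoetherianRing B]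
    (φ : A →+* B) [IsLocalHom φ] (hinj : Function.Injective φ) (hsurj : ¬ Function.Surjective φ)
    (hfrac : ∀ c : B, ∃ a b : A, b ≠ 0 ∧ c * φ b = φ a)
    (hht : ∀ P : Ideal B, P.IsPrime → P ≠ maximalIdeal B → (P.comap φ).height = P.height) :
    ringKrullDim B = 1 := by
  rw [← maximalIdeal_height_eq_ringKrullDim]
  obtain ⟨c, hc⟩ : ∃ c, c ∉ Set.range φ := by
    simpa [Function.Surjective] using hsurj
  obtain ⟨a₀, b₀, hb₀, hab⟩ := hfrac c
  obtain ⟨a, b, e, hrel, rfl, rfl⟩ := UniqueFactorizationMonoid.exists_reduced_factors' a₀ b₀ hb₀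
  have he : φ e ≠ 0 := by
    rw [map_ne_zero_iff φ hinj]; rintro rfl; simp at hb₀
  have hab' : c * φ b = φ a := by
    rw [map_mul, map_mul] at hab
    exact mul_left_cancel₀ he (by linear_combination hab)
  have hbnu : ¬ IsUnit b := by
    rintro ⟨u, rfl⟩
    refine hc ⟨a * (↑u⁻¹ : A), ?_⟩
    rw [map_mul, ← hab', mul_assoc, ← map_mul, Units.mul_inv, map_one, mul_one]
  have hb : b ≠ 0 := by rintro rfl; simp at hb₀
  have hφb : ¬ IsUnit (φ b) := fun h => hbnu (isUnit_of_map_unit φ b h)
  obtain ⟨P, hP⟩ := (Ideal.span {φ b}).nonempty_minimalPrimes (by simpa using hφb)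
  have := hP.1.1
  have hbP : φ b ∈ P := hP.1.2 (Ideal.mem_span_singleton_self _)
  have hP1 : P.height = 1 := by
    refine le_antisymm (Ideal.height_le_one_of_isPrincipal_of_mem_minimalPrimes _ P hP) ?_
    rw [ENat.one_le_iff_ne_zero]
    intro h0
    rw [Ideal.height_eq_zero_iff_eq_bot] at h0
    subst h0
    exact (map_ne_zero_iff φ hinj).2 hb ((Ideal.mem_bot).1 hbP)
  by_cases hPm : P = maximalIdeal B
  · rw [← hPm, hP1]; rfl
  exfalso
  have hp1 : (P.comap φ).height = 1 := (hht P inferInstance hPm).trans hP1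
  have hne : P.comap φ ≠ ⊥ := Ideal.ne_bot_of_height_eq_one hp1
  obtain ⟨π, hπ, hπp⟩ := Ideal.IsPrime.exists_mem_prime_of_ne_bot (inferInstance : (P.comap φ).IsPrime) hne
  have heq := Ideal.eq_span_singleton_of_height_eq_one hp1 hπ hπp
  have haP : a ∈ P.comap φ := by
    rw [Ideal.mem_comap, ← hab']
    exact P.mul_mem_left c hbP
  have hbP' : b ∈ P.comap φ := hbP
  rw [heq, Ideal.mem_span_singleton] at haP hbP'
  exact hπp.not_unit (hrel haP hbP')

variable {X Y : Scheme.{u}}

/-- The dimension of the local ring at a point of `Spec` of a stalk. -/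
theorem ringKrullDim_stalk_fromSpecStalk (x : X) (p : Spec (X.presheaf.stalk x)) :
    ringKrullDim (X.presheaf.stalk (X.fromSpecStalk x p)) = p.asIdeal.height := by
  have := Groth.Agent.VarietyLib.flat_fromSpecStalk' x
  have h1 : IsIso ((X.fromSpecStalk x).stalkMap p) :=
    Groth.Agent.VarietyLib.isIso_stalkMap_of_flat_of_isPreimmersion _ p
  rw [ringKrullDim_eq_of_ringEquiv (asIso ((X.fromSpecStalk x).stalkMap p)).commRingCatIsoToRingEquiv]
  exact IsLocalization.AtPrime.ringKrullDim_eq_height p.asIdeal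
    ((Spec.structureSheaf (X.presheaf.stalk x)).presheaf.stalk p)

theorem apply_genericPoint_of_isOpenImmersion [IsIntegral X] [IsIntegral Y] (g : X ⟶ Y)
    {W : X.Opens} (hW : (W : Set X).Nonempty) [IsOpenImmersion (W.ι ≫ g)] :
    g (genericPoint X) = genericPoint Y := by
  obtain ⟨w, hw⟩ := hW
  let O := (W.ι ≫ g).opensRange
  have hO : genericPoint Y ∈ O :=
    (genericPoint_specializes (g w)).mem_open O.isOpen ⟨⟨w, hw⟩, rfl⟩
  obtain ⟨⟨v, hv⟩, hgv⟩ := hO
  have h1 : g (genericPoint X) ⤳ genericPoint Y := by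
    rw [← hgv]
    exact (genericPoint_specializes v).map g.continuous
  exact (h1.antisymm (genericPoint_specializes _)).eq

theorem isIso_stalkMap_of_mem [IsLocallyNoetherian Y] (g : X ⟶ Y) [LocallyOfFiniteType g]
    (x : X) : (∃ W : X.Opens, x ∈ W ∧ IsOpenImmersion (W.ι ≫ g)) ↔ IsIso (g.stalkMap x) :=
  Groth.Agent.SchLoc.isLocalIsoAt_iff_isIso g x

theorem isIso_stalkMap_genericPoint [IsIntegral X] [IsIntegral Y] [IsLocallyNoetherian Y] (g : X ⟶ Y)
    [LocallyOfFiniteType g]
    (hV : ∃ (W : X.Opens), (W : Set X).Nonempty ∧ IsOpenImmersion (W.ι ≫ g)) :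
    IsIso (g.stalkMap (genericPoint X)) := by
  obtain ⟨W, ⟨w, hw⟩, hW⟩ := hV
  exact (isIso_stalkMap_of_mem g _).1 ⟨W, (genericPoint_specializes w).mem_open W.isOpen hw, hW⟩

/-- Birational: the stalk maps are injective and every germ is a fraction of pulled-back germs. -/
theorem stalkMap_birational [IsIntegral X] [IsIntegral Y] (g : X ⟶ Y)
    (hgen : g (genericPoint X) = genericPoint Y) [IsIso (g.stalkMap (genericPoint X))] (x : X) :
    Function.Injective (g.stalkMap x) ∧
      ∀ c : X.presheaf.stalk x, ∃ a b : Y.presheaf.stalk (g x), b ≠ 0 ∧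
        c * g.stalkMap x b = g.stalkMap x a := by
  have hYy : g (genericPoint X) ⤳ g x := (genericPoint_specializes x).map g.continuous
  let iY := Y.presheaf.stalkSpecializes hYy
  let iX := X.presheaf.stalkSpecializes (genericPoint_specializes x)
  have hcomm : ∀ a, iX (g.stalkMap x a) = g.stalkMap (genericPoint X) (iY a) := fun a =>
    (Scheme.Hom.stalkSpecializes_stalkMap_apply g _ x (genericPoint_specializes x) a).symm
  have hiX : Function.Injective iX := IsFractionRing.injective (X.presheaf.stalk x) X.functionField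
  have key : ∀ (z : Y) (hz : z ⤳ g x), z = genericPoint Y →
      Function.Injective (Y.presheaf.stalkSpecializes hz) ∧
      ∀ k, ∃ a b : Y.presheaf.stalk (g x), b ≠ 0 ∧
        k * Y.presheaf.stalkSpecializes hz b = Y.presheaf.stalkSpecializes hz a := by
    rintro z hz rfl
    refine ⟨IsFractionRing.injective (Y.presheaf.stalk (g x)) Y.functionField, fun k => ?_⟩
    obtain ⟨a, b, hb, rfl⟩ := IsFractionRing.div_surjective (A := Y.presheaf.stalk (g x)) (K := Y.functionField) k
    refine ⟨a, b, nonZeroDivisors.ne_zero hb, ?_⟩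
    exact div_mul_cancel₀ _ (IsFractionRing.to_map_ne_zero_of_mem_nonZeroDivisors hb)
  obtain ⟨hiY, hfracY⟩ := key _ hYy hgen
  have hb := ConcreteCategory.bijective_of_isIso (g.stalkMap (genericPoint X))
  refine ⟨fun a a' h => hiY (hb.1 ?_), fun c => ?_⟩
  · rw [← hcomm, ← hcomm, h]
  · obtain ⟨k, hk⟩ := hb.2 (iX c)
    obtain ⟨a, b, hb0, hab⟩ := hfracY k
    refine ⟨a, b, hb0, hiX ?_⟩
    rw [map_mul, hcomm, hcomm, ← hk, ← map_mul, hab]

/-- Purity of the non-local-isomorphism locus, factorial target. -/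
theorem ringKrullDim_stalk_eq_one [IsIntegral X] [IsLocallyNoetherian X] [IsIntegral Y]
    [IsLocallyNoetherian Y] (g : X ⟶ Y) [LocallyOfFiniteType g]
    (hY : ∀ y : Y, UniqueFactorizationMonoid (Y.presheaf.stalk y))
    (hV : ∃ (W : X.Opens), (W : Set X).Nonempty ∧ IsOpenImmersion (W.ι ≫ g))
    (ξ : X) (hξ : ¬ IsIso (g.stalkMap ξ))
    (hmax : ∀ η : X, ¬ IsIso (g.stalkMap η) → η ⤳ ξ → η = ξ) :
    ringKrullDim (X.presheaf.stalk ξ) = 1 := by
  have hgeniso := isIso_stalkMap_genericPoint g hV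
  have hgen : g (genericPoint X) = genericPoint Y := by
    obtain ⟨W, hW, hWi⟩ := hV
    exact apply_genericPoint_of_isOpenImmersion g hW
  obtain ⟨hinj, hfrac⟩ := stalkMap_birational g hgen ξ
  have := hY (g ξ)
  refine ringKrullDim_eq_one_of_ufd (g.stalkMap ξ).hom hinj ?_ hfrac ?_
  · intro hsurj
    exact hξ ((ConcreteCategory.isIso_iff_bijective _).2 ⟨hinj, hsurj⟩)
  · intro P hP hPm
    let p : Spec (X.presheaf.stalk ξ) := ⟨P, hP⟩
    let η := X.fromSpecStalk ξ p
    have hη : η ⤳ ξ := (Scheme.range_fromSpecStalk (x := ξ)).le ⟨p, rfl⟩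
    have hne : η ≠ ξ := by
      intro h
      have : p = closedPoint (X.presheaf.stalk ξ) :=
        (X.fromSpecStalk ξ).isEmbedding.injective (h.trans Scheme.fromSpecStalk_closedPoint.symm)
      exact hPm congr($(this).asIdeal)
    have hiso : IsIso (g.stalkMap η) := by_contra fun h => hne (hmax η h hη)
    have hgη : Y.fromSpecStalk (g ξ) (Spec.map (g.stalkMap ξ) p) = g η :=
      congr($(Scheme.SpecMap_stalkMap_fromSpecStalk g (x := ξ)) p)
    have e := ringKrullDim_eq_of_ringEquiv (asIso (g.stalkMap η)).commRingCatIsoToRingEquiv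
    have h1 := ringKrullDim_stalk_fromSpecStalk ξ p
    have h2 := ringKrullDim_stalk_fromSpecStalk (g ξ) (Spec.map (g.stalkMap ξ) p)
    rw [hgη, e, h1] at h2
    exact (WithBot.coe_inj.1 h2).symm

end Groth.Agent.Pur21Lib
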