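import Mathlib
import Groth.Agent.Pur21Lib.Purity
import Groth.Agent.SDiv28.PuncturedAffine
import Groth.Agent.CAlgH.KrullAkizukiLength

/-!
# Components of the exceptional fibre of an open immersion off a closed point (EGA IV 21.12.11)
-/

set_option autoImplicit false
set_option backward.isDefEq.respectTransparency.types false

universe u

open CategoryTheory Limits AlgebraicGeometry TopologicalSpace IsLocalRing

namespace Groth.Agent.Pur21Lib

/-- Krull–Akizuki: a birational extension of a one-dimensional Noetherian domain has dimension at most one. -/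
theorem isMaximal_of_birational {T C : Type u} [CommRing T] [IsDomain T] [IsNoetherianRing T] [Ring.KrullDimLE 1 T]
    [CommRing C] [IsDomain C] (ψ : T →+* C) (hinj : Function.Injective ψ)
    (hfrac : ∀ c : C, ∃ a b : T, b ≠ 0 ∧ c * ψ b = ψ a) (Q : Ideal C) [Q.IsPrime] (hQ : Q ≠ ⊥) :
    Q.IsMaximal := by
  let K := FractionRing C
  letI : Algebra T C := ψ.toAlgebra
  have hTK : Function.Injective (algebraMap T K) := by
    rw [IsScalarTower.algebraMap_eq T C K]
    exact (IsFractionRing.injective C K).comp hinj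
  haveI : IsFractionRing T K := by
    have : FaithfulSMul T K := (faithfulSMul_iff_algebraMap_injective T K).2 hTK
    refine IsFractionRing.of_field _ _ fun z => ?_
    obtain ⟨c₁, c₂, hc₂, rfl⟩ := IsFractionRing.div_surjective (A := C) (K := K) z
    obtain ⟨a₁, b₁, hb₁, h1⟩ := hfrac c₁
    obtain ⟨a₂, b₂, hb₂, h2⟩ := hfrac c₂
    refine ⟨a₁ * b₂, b₁ * a₂, ?_⟩
    have e1 := congrArg (algebraMap C K) h1
    have e2 := congrArg (algebraMap C K) h2
    rw [map_mul] at e1 e2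
    simp only [IsScalarTower.algebraMap_apply T C K, RingHom.algebraMap_toAlgebra]
    simp only [map_mul, ← e1, ← e2]
    have h3 : algebraMap C K (ψ b₁) ≠ 0 := fun h => hb₁ (hTK (h.trans (map_zero _).symm))
    have h4 : algebraMap C K (ψ b₂) ≠ 0 := fun h => hb₂ (hTK (h.trans (map_zero _).symm))
    have h5 : algebraMap C K c₂ ≠ 0 := IsFractionRing.to_map_ne_zero_of_mem_nonZeroDivisors hc₂
    rw [div_eq_div_iff h5 (mul_ne_zero h3 (mul_ne_zero h5 h4))]
    ring
  obtain ⟨c, hcQ, hc0⟩ := Submodule.exists_mem_ne_zero_of_ne_bot hQ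
  obtain ⟨a, b, hb, hab⟩ := hfrac c
  have ha : a ≠ 0 := by
    rintro rfl
    rw [map_zero, mul_eq_zero] at hab
    exact hb (hinj ((hab.resolve_left hc0).trans (map_zero ψ).symm))
  have haQ : ψ a ∈ Q := hab ▸ Q.mul_mem_right _ hcQ
  let φ : C →ₗ[T] (Fin 1 → K) := LinearMap.pi fun _ => (IsScalarTower.toAlgHom T C K).toLinearMap
  have hφ : Function.Injective φ := fun x y h => IsFractionRing.injective C K (congrFun h 0)
  have hfin := Groth.Agent.CAlgH.length_quot_ne_top (K := K) (r := 1) ha C φ hφ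
  let xW : Submodule T C := Ideal.span {a} • ⊤
  have : IsArtinian T (C ⧸ xW) := (isFiniteLength_iff_isNoetherian_isArtinian.mp
    ((Module.length_ne_top_iff (R := T) (M := C ⧸ xW)).mp hfin)).2
  have hle : xW ≤ Q.restrictScalars T := by
    refine Submodule.smul_le.2 fun r hr v _ => ?_
    obtain ⟨k, rfl⟩ := Ideal.mem_span_singleton.1 hr
    rw [Algebra.smul_def, RingHom.algebraMap_toAlgebra, map_mul, mul_assoc]
    exact Q.mul_mem_right _ haQ
  have : IsArtinian T (C ⧸ Q) :=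
    isArtinian_of_surjective_algebraMap_aux hle
  have : IsArtinianRing (C ⧸ Q) := isArtinian_of_tower T this
  exact Ideal.Quotient.maximal_of_isField _ (IsArtinianRing.isField_of_isDomain (C ⧸ Q))
where
  isArtinian_of_surjective_algebraMap_aux {T C : Type u} [CommRing T] [CommRing C] [Algebra T C] {xW : Submodule T C}
      {Q : Ideal C} [IsArtinian T (C ⧸ xW)] (hle : xW ≤ Q.restrictScalars T) : IsArtinian T (C ⧸ Q) :=
    isArtinian_of_surjective (C ⧸ xW)
      ((Submodule.Quotient.restrictScalarsEquiv T Q).toLinearMap ∘ₗ Submodule.factor hle)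
      ((Submodule.Quotient.restrictScalarsEquiv T Q).surjective.comp (Submodule.factor_surjective hle))

variable {X Y : Scheme.{u}}

/-- A closed point of the punctured spectrum over which `g` is an isomorphism cannot generize a
non-isolated point of the fibre. -/
theorem not_specializes_of_isIso_stalkMap [IsLocallyNoetherian Y] (g : X ⟶ Y) {t' z w : X}
    (hiso : IsIso (g.stalkMap t')) (hcl : ∀ v : Y, g t' ⤳ v → v ⤳ g w → v = g t' ∨ v = g w)
    (hne : z ≠ t') (hzw : z ≠ w) (h1 : t' ⤳ z) (h2 : z ⤳ w) : False := by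
  obtain ⟨p', rfl⟩ := (Scheme.range_fromSpecStalk (x := w)).ge (show t' ∈ {a | a ⤳ w} from h1.trans h2)
  obtain ⟨q', rfl⟩ := (Scheme.range_fromSpecStalk (x := w)).ge (show z ∈ {a | a ⤳ w} from h2)
  let φ := g.stalkMap w
  let p := Spec.map φ p'
  have := p'.2
  have := q'.2
  have := p.2
  have hgp : Y.fromSpecStalk (g w) p = g (X.fromSpecStalk w p') :=
    congr($(Scheme.SpecMap_stalkMap_fromSpecStalk g (x := w)) p')
  -- the localized map is bijective
  have := Groth.Agent.VarietyLib.flat_fromSpecStalk' w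
  have := Groth.Agent.VarietyLib.flat_fromSpecStalk' (g w)
  have hX' : IsIso ((X.fromSpecStalk w).stalkMap p') :=
    Groth.Agent.VarietyLib.isIso_stalkMap_of_flat_of_isPreimmersion _ p'
  have hY' : IsIso ((Y.fromSpecStalk (g w)).stalkMap p) :=
    Groth.Agent.VarietyLib.isIso_stalkMap_of_flat_of_isPreimmersion _ p
  have h3 : IsIso ((Spec.map φ ≫ Y.fromSpecStalk (g w)).stalkMap p') := by
    have h4 : IsIso ((X.fromSpecStalk w ≫ g).stalkMap p') := by
      rw [Scheme.Hom.stalkMap_comp]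
      exact @IsIso.comp_isIso _ _ _ _ _ (g.stalkMap _) ((X.fromSpecStalk w).stalkMap p') hiso hX'
    have e : Spec.map φ ≫ Y.fromSpecStalk (g w) = X.fromSpecStalk w ≫ g := Scheme.SpecMap_stalkMap_fromSpecStalk g
    rwa [e]
  rw [Scheme.Hom.stalkMap_comp] at h3
  have h4 : IsIso ((Spec.map φ).stalkMap p') :=
    @IsIso.of_isIso_comp_left _ _ _ _ _ ((Y.fromSpecStalk (g w)).stalkMap p) ((Spec.map φ).stalkMap p') hY' h3
  have h5 : IsIso (CommRingCat.ofHom (Localization.localRingHom p.asIdeal p'.asIdeal φ.hom rfl)) :=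
    ((MorphismProperty.isomorphisms CommRingCat).arrow_mk_iso_iff (Scheme.arrowStalkMapSpecIso φ p')).1 h4
  have hbij := ConcreteCategory.bijective_of_isIso (CommRingCat.ofHom (Localization.localRingHom p.asIdeal p'.asIdeal φ.hom rfl))
  -- the quotient rings
  let ψ : Y.presheaf.stalk (g w) ⧸ p.asIdeal →+* X.presheaf.stalk w ⧸ p'.asIdeal :=
    Ideal.quotientMap p'.asIdeal φ.hom le_rfl
  have hψ : Function.Injective ψ := Ideal.quotientMap_injective
  have hfrac : ∀ c, ∃ a b, b ≠ 0 ∧ c * ψ b = ψ a := by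
    intro c
    obtain ⟨c, rfl⟩ := Ideal.Quotient.mk_surjective c
    obtain ⟨k, hk⟩ := hbij.2 (algebraMap _ (Localization.AtPrime p'.asIdeal) c)
    obtain ⟨a, s, rfl⟩ := IsLocalization.exists_mk'_eq p.asIdeal.primeCompl k
    refine ⟨Ideal.Quotient.mk _ a, Ideal.Quotient.mk _ s.1, fun h => s.2 (Ideal.Quotient.eq_zero_iff_mem.1 h), ?_⟩
    change Localization.localRingHom p.asIdeal p'.asIdeal φ.hom rfl _ = _ at hk
    rw [Localization.localRingHom_mk', IsLocalization.mk'_eq_iff_eq_mul, ← map_mul,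
      IsLocalization.eq_iff_exists p'.asIdeal.primeCompl] at hk
    obtain ⟨v, hv⟩ := hk
    refine mul_left_cancel₀ (fun h => v.2 (Ideal.Quotient.eq_zero_iff_mem.1 h) :
      Ideal.Quotient.mk p'.asIdeal v.1 ≠ 0) ?_
    show Ideal.Quotient.mk p'.asIdeal v.1 * (Ideal.Quotient.mk _ c * Ideal.Quotient.mk _ (φ s.1)) =
      Ideal.Quotient.mk p'.asIdeal v.1 * Ideal.Quotient.mk _ (φ a)
    rw [← map_mul, ← map_mul, ← map_mul]
    exact (congrArg _ hv).symm
  have hdim : Ring.KrullDimLE 1 (Y.presheaf.stalk (g w) ⧸ p.asIdeal) := by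
    refine Ring.krullDimLE_one_iff.2 fun I hI => ?_
    let r : Spec (Y.presheaf.stalk (g w)) := ⟨I.comap (Ideal.Quotient.mk _), inferInstance⟩
    have hpr : p.asIdeal ≤ r.asIdeal := Ideal.mk_ker.ge.trans (RingHom.ker_eq_comap_bot (Ideal.Quotient.mk p.asIdeal) ▸ Ideal.comap_mono bot_le)
    have hs1 : g (X.fromSpecStalk w p') ⤳ Y.fromSpecStalk (g w) r := by
      rw [← hgp]
      exact ((PrimeSpectrum.le_iff_specializes p r).1 hpr).map (Y.fromSpecStalk (g w)).continuous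
    have hs2 : Y.fromSpecStalk (g w) r ⤳ g w := (Scheme.range_fromSpecStalk (x := g w)).le ⟨r, rfl⟩
    rcases hcl _ hs1 hs2 with h | h
    · left
      rw [IsDomain.minimalPrimes_eq_singleton_bot, Set.mem_singleton_iff]
      have : r = p := (Y.fromSpecStalk (g w)).isEmbedding.injective (h.trans hgp.symm)
      refine Ideal.comap_injective_of_surjective _ Ideal.Quotient.mk_surjective ?_
      rw [← RingHom.ker_eq_comap_bot, Ideal.mk_ker]
      exact congr($(this).asIdeal)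
    · right
      have : r = closedPoint (Y.presheaf.stalk (g w)) :=
        (Y.fromSpecStalk (g w)).isEmbedding.injective (h.trans Scheme.fromSpecStalk_closedPoint.symm)
      have hrm : r.asIdeal.IsMaximal := by rw [this]; exact maximalIdeal.isMaximal _
      rw [← Ideal.map_comap_of_surjective (Ideal.Quotient.mk p.asIdeal) Ideal.Quotient.mk_surjective I]
      exact Ideal.IsMaximal.map_of_surjective_of_ker_le Ideal.Quotient.mk_surjective (Ideal.mk_ker.trans_le hpr)
  have hle : p'.asIdeal ≤ q'.asIdeal :=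
    (PrimeSpectrum.le_iff_specializes p' q').2 ((X.fromSpecStalk w).isEmbedding.isInducing.specializes_iff.1 h1)
  have hQp := Ideal.map_isPrime_of_surjective (f := Ideal.Quotient.mk p'.asIdeal) (I := q'.asIdeal)
    Ideal.Quotient.mk_surjective (Ideal.mk_ker.trans_le hle)
  have hcm : (q'.asIdeal.map (Ideal.Quotient.mk p'.asIdeal)).comap (Ideal.Quotient.mk p'.asIdeal) = q'.asIdeal := by
    rw [Ideal.comap_map_of_surjective' _ Ideal.Quotient.mk_surjective, Ideal.mk_ker, sup_eq_left.2 hle]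
  have hmax := isMaximal_of_birational ψ hψ hfrac (q'.asIdeal.map (Ideal.Quotient.mk p'.asIdeal)) (fun h => by
    refine hne (congrArg _ (PrimeSpectrum.ext ?_))
    rw [← hcm, h, ← RingHom.ker_eq_comap_bot, Ideal.mk_ker])
  have := Ideal.comap_isMaximal_of_surjective (Ideal.Quotient.mk p'.asIdeal) Ideal.Quotient.mk_surjective (K := q'.asIdeal.map (Ideal.Quotient.mk p'.asIdeal))
  rw [hcm] at this
  refine hzw ?_
  rw [show q' = closedPoint _ from PrimeSpectrum.ext (IsLocalRing.eq_maximalIdeal this)]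
  exact Scheme.fromSpecStalk_closedPoint

theorem isIso_stalkMap_of_isOpenImmersion_ι_comp (g : X ⟶ Y) (V : X.Opens) [IsOpenImmersion (V.ι ≫ g)]
    (t : X) (ht : t ∈ V) : IsIso (g.stalkMap t) := by
  have h1 : IsIso ((V.ι ≫ g).stalkMap (⟨t, ht⟩ : V)) := inferInstance
  rw [Scheme.Hom.stalkMap_comp] at h1
  have h2 : IsIso (V.ι.stalkMap (⟨t, ht⟩ : V)) := inferInstance
  exact @IsIso.of_isIso_comp_right _ _ _ _ _ (g.stalkMap t) (V.ι.stalkMap (⟨t, ht⟩ : V)) h2 h1

/-- EGA IV 21.12.11, core. -/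
theorem dim_le_one_of_not_closed_in_fibre [IsLocallyNoetherian X] [IsLocallyNoetherian Y] (g : X ⟶ Y) (z : X)
    (hW : ∀ U : (Spec (Y.presheaf.stalk (g z))).Opens, ∀ hU : U ≤ FEt.puncturedSpec ↑(Y.presheaf.stalk (g z)),
        (∀ T ∈ irreducibleComponents ↥(FEt.puncturedSpec ↑(Y.presheaf.stalk (g z))), ¬ Subtype.val '' T ⊆ (U : Set _)) →
        IsAffineHom ((Spec (Y.presheaf.stalk (g z))).homOfLE hU) → IsAffineOpen U)
    (hmax : ∀ z' : X, g z' = g z → z' ⤳ z → z' = z)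
    (V : X.Opens) [IsOpenImmersion (V.ι ≫ g)] (X₁ : X.Opens) (hzX₁ : z ∈ X₁)
    (hV : ∀ x ∈ X₁, g x ⤳ g z → g x ≠ g z → x ∈ V)
    (w : X) (hw : g w = g z) (hzw : z ⤳ w) (hne : w ≠ z) :
    ringKrullDim ↑(X.presheaf.stalk z) ≤ 1 := by
  classical
  let A := Y.presheaf.stalk (g z)
  let j := Y.fromSpecStalk (g z)
  have hjsp : ∀ q : Spec A, j q ⤳ g z := fun q => (Scheme.range_fromSpecStalk (x := g z)).le ⟨q, rfl⟩
  have hjne : ∀ q : Spec A, q ≠ closedPoint A → j q ≠ g z := fun q hq h =>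
    hq (j.isEmbedding.injective (h.trans Scheme.fromSpecStalk_closedPoint.symm))
  let P' : (Spec A).Opens := FEt.puncturedSpec ↑A
  have : NoetherianSpace (Spec A) := inferInstance
  have : NoetherianSpace ↥P' := Topology.IsInducing.noetherianSpace (i := (Subtype.val : P' → Spec A)) Topology.IsInducing.subtypeVal
  have hfin : (irreducibleComponents ↥P').Finite := NoetherianSpace.finite_irreducibleComponents
  -- closed points in the components
  have hpick : ∀ T ∈ irreducibleComponents ↥P', ∃ t : Spec A, t ∈ Subtype.val '' T ∧ t ≠ closedPoint A ∧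
      ∀ r : Spec A, t ⤳ r → r = t ∨ r = closedPoint A := by
    intro T hT
    obtain ⟨t₀, ht₀⟩ := hT.1.1
    let M : Set (Ideal ↑A) := {I | ∃ r : P', r ∈ T ∧ r.1.asIdeal = I}
    obtain ⟨I, ⟨r, hrT, rfl⟩, hmaxI⟩ := set_has_maximal_iff_noetherian.2 (inferInstance : IsNoetherian A A) M ⟨_, t₀, ht₀, rfl⟩
    refine ⟨r.1, ⟨r, hrT, rfl⟩, r.2, fun r' hr' => ?_⟩
    by_cases hc : r' = closedPoint A
    · exact Or.inr hc
    · left
      have hmem : (⟨r', hc⟩ : P') ∈ T :=
        (Topology.IsInducing.subtypeVal.specializes_iff.1 (show r.1 ⤳ (⟨r', hc⟩ : P').1 from hr')).mem_closed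
          (isClosed_of_mem_irreducibleComponents T hT) hrT
      have hle : r.1.asIdeal ≤ r'.asIdeal := (PrimeSpectrum.le_iff_specializes r.1 r').2 hr'
      exact (PrimeSpectrum.ext ((eq_or_lt_of_le hle).resolve_right fun hlt => hmaxI _ ⟨⟨r', hc⟩, hmem, rfl⟩ hlt)).symm
  choose! tp htT htne htcl using hpick
  let bad : Set X := ⋃ T ∈ irreducibleComponents ↥P', closure ((X₁ : Set X) ∩ g ⁻¹' {j (tp T)})
  have hmemV : ∀ T ∈ irreducibleComponents ↥P', ∀ a ∈ (X₁ : Set X) ∩ g ⁻¹' {j (tp T)}, a ∈ V := fun T hT a ha => by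
    have h : g a = j (tp T) := ha.2
    exact hV a ha.1 (h ▸ hjsp _) (h ▸ hjne _ (htne T hT))
  have hsub : ∀ T ∈ irreducibleComponents ↥P', ((X₁ : Set X) ∩ g ⁻¹' {j (tp T)}).Subsingleton := by
    intro T hT a ha b hb
    have e : (V.ι ≫ g) ⟨a, hmemV T hT a ha⟩ = (V.ι ≫ g) ⟨b, hmemV T hT b hb⟩ :=
      (show g a = g b from Eq.trans (ha.2 : g a = j (tp T)) (Eq.symm (hb.2 : g b = j (tp T))))
    exact congrArg Subtype.val ((V.ι ≫ g).isOpenEmbedding.injective e)
  have hzbad : z ∉ bad := by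
    intro h
    simp only [bad, Set.mem_iUnion] at h
    obtain ⟨T, hT, hzT⟩ := h
    rcases ((X₁ : Set X) ∩ g ⁻¹' {j (tp T)}).eq_empty_or_nonempty with he | ⟨t', ht'⟩
    · rw [he, closure_empty] at hzT; exact hzT
    rw [(hsub T hT).eq_singleton_of_mem ht', ← specializes_iff_mem_closure] at hzT
    have hgt : g t' = j (tp T) := ht'.2
    refine not_specializes_of_isIso_stalkMap g (w := w)
      (isIso_stalkMap_of_isOpenImmersion_ι_comp g V t' (hmemV T hT t' ht')) ?_ ?_ hne.symm hzT hzw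
    · intro v hv1 hv2
      rw [hgt] at hv1 ⊢
      rw [hw] at hv2 ⊢
      obtain ⟨r, rfl⟩ := (Scheme.range_fromSpecStalk (x := g z)).ge (show v ∈ {a | a ⤳ g z} from hv2)
      rcases htcl T hT r (j.isEmbedding.isInducing.specializes_iff.1 hv1) with h | h
      · exact Or.inl (by rw [h])
      · exact Or.inr (by rw [h]; exact Scheme.fromSpecStalk_closedPoint)
    · intro he
      exact hjne _ (htne T hT) (by rw [← hgt, ← he])
  -- affine neighbourhood
  obtain ⟨Y₀, hY₀, hyY₀, -⟩ := exists_isAffineOpen_mem_and_subset (x := g z) (U := ⊤) trivial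
  have hbadc : IsClosed bad := hfin.isClosed_biUnion fun T _ => isClosed_closure
  obtain ⟨X₀, hX₀, hzX₀, hX₀le⟩ := exists_isAffineOpen_mem_and_subset (x := z)
    (U := X₁ ⊓ ((⟨badᶜ, hbadc.isOpen_compl⟩ : X.Opens) ⊓ g ⁻¹ᵁ Y₀)) ⟨hzX₁, hzbad, hyY₀⟩
  let g₀ : X₀.toScheme ⟶ Y₀.toScheme := g.resLE Y₀ X₀ (fun a ha => (hX₀le ha).2.2)
  have hg₀ : g₀ ≫ Y₀.ι = X₀.ι ≫ g := Scheme.Hom.resLE_comp_ι g _
  have hrj : Set.range j ⊆ Set.range Y₀.ι := by
    rintro _ ⟨q, rfl⟩
    rw [Scheme.Opens.range_ι]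
    exact ((Scheme.range_fromSpecStalk (x := g z)).le ⟨q, rfl⟩ : j q ⤳ g z).mem_open Y₀.2 hyY₀
  let j₀ : Spec A ⟶ Y₀.toScheme := IsOpenImmersion.lift Y₀.ι j hrj
  have hj₀ : j₀ ≫ Y₀.ι = j := IsOpenImmersion.lift_fac _ _ _
  have : IsAffine X₀.toScheme := hX₀
  have : IsAffine Y₀.toScheme := hY₀
  let XP := pullback g₀ j₀
  let p : XP ⟶ Spec A := pullback.snd g₀ j₀
  have : IsAffine XP := inferInstance
  have : IsAffineHom p := isAffineHom_of_isAffine p
  have sq : IsPullback (pullback.fst g₀ j₀) p (X₀.ι ≫ g) j := by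
    rw [← hg₀, ← hj₀]
    exact ⟨⟨by rw [← Category.assoc, pullback.condition, Category.assoc]⟩,
      ⟨pullbackIsPullbackOfCompMono g₀ j₀ Y₀.ι⟩⟩
  -- open immersion off the closed point
  have himm : IsOpenImmersion (p ∣_ P') := by
    have sqA := (isPullback_morphismRestrict p P').flip.paste_horiz sq
    have hrl : Set.range ((p ⁻¹ᵁ P').ι ≫ pullback.fst g₀ j₀) ⊆ Set.range (X₀.ι ⁻¹ᵁ V).ι := by
      rintro _ ⟨a, rfl⟩
      rw [Scheme.Opens.range_ι]
      have h : g (X₀.ι (pullback.fst g₀ j₀ ((p ⁻¹ᵁ P').ι a))) = j (p ((p ⁻¹ᵁ P').ι a)) := congr($(sq.w) _)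
      exact hV _ (hX₀le (pullback.fst g₀ j₀ ((p ⁻¹ᵁ P').ι a)).2).1 (h ▸ hjsp _) (h ▸ hjne _ a.2)
    let l := IsOpenImmersion.lift (X₀.ι ⁻¹ᵁ V).ι ((p ⁻¹ᵁ P').ι ≫ pullback.fst g₀ j₀) hrl
    have e1 : l ≫ (X₀.ι ⁻¹ᵁ V).ι = (p ⁻¹ᵁ P').ι ≫ pullback.fst g₀ j₀ := IsOpenImmersion.lift_fac _ _ _
    rw [← e1] at sqA
    have sqC : IsPullback l (p ∣_ P') ((X₀.ι ⁻¹ᵁ V).ι ≫ X₀.ι ≫ g) (P'.ι ≫ j) := by
      refine ⟨⟨by rw [← Category.assoc, ← Category.assoc, Category.assoc _ X₀.ι]; exact sqA.w⟩, ⟨?_⟩⟩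
      refine PullbackCone.IsLimit.mk _
        (fun c => sqA.lift (c.fst ≫ (X₀.ι ⁻¹ᵁ V).ι) c.snd (by rw [Category.assoc]; exact c.condition))
        (fun c => by rw [← cancel_mono (X₀.ι ⁻¹ᵁ V).ι, Category.assoc]; exact sqA.lift_fst _ _ _)
        (fun c => sqA.lift_snd _ _ _) (fun c m h1 h2 => sqA.hom_ext ?_ ?_)
      · rw [sqA.lift_fst, ← h1, Category.assoc]
      · rw [sqA.lift_snd, h2]
    have : IsOpenImmersion ((X₀.ι ⁻¹ᵁ V).ι ≫ X₀.ι ≫ g) := by
      rw [← Category.assoc, ← morphismRestrict_ι, Category.assoc]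
      have : IsOpenImmersion (X₀.ι ∣_ V) := IsZariskiLocalAtTarget.restrict (P := @IsOpenImmersion) inferInstance _
      infer_instance
    exact MorphismProperty.of_isPullback (P := @IsOpenImmersion) sqC inferInstance
  let gP : (p ⁻¹ᵁ P').toScheme ⟶ Spec A := (p ∣_ P') ≫ P'.ι
  let UP : (Spec A).Opens := gP.opensRange
  have hUP : UP ≤ P' := by
    rintro _ ⟨a, rfl⟩
    exact ((p ∣_ P') a).2
  have haff : IsAffineOpen UP := by
    refine hW UP hUP (fun T hT hsubT => ?_) ?_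
    · obtain ⟨a, ha⟩ := hsubT (htT T hT)
      let xa : X := X₀.ι (pullback.fst g₀ j₀ ((p ⁻¹ᵁ P').ι a))
      have hxa : g xa = j (tp T) := by
        rw [← ha]
        show (((p ⁻¹ᵁ P').ι ≫ pullback.fst g₀ j₀) ≫ (X₀.ι ≫ g)) a = (((p ∣_ P') ≫ P'.ι) ≫ j) a
        rw [morphismRestrict_ι, Category.assoc, Category.assoc, sq.w]
      have hmem : xa ∈ X₀ := (pullback.fst g₀ j₀ ((p ⁻¹ᵁ P').ι a)).2
      exact (hX₀le hmem).2.1 (Set.mem_biUnion hT (subset_closure ⟨(hX₀le hmem).1, hxa⟩))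
    · have e : gP.isoOpensRange.hom ≫ (Spec A).homOfLE hUP = p ∣_ P' := by
        rw [← cancel_mono P'.ι, Category.assoc, Scheme.homOfLE_ι, Scheme.Hom.isoOpensRange_hom_ι]
      have : IsAffineHom (p ∣_ P') := IsZariskiLocalAtTarget.restrict (P := @IsAffineHom) ‹IsAffineHom p› P'
      have e2 : (Spec A).homOfLE hUP = gP.isoOpensRange.inv ≫ p ∣_ P' := (Iso.eq_inv_comp _).2 e
      show IsAffineHom ((Spec A).homOfLE hUP)
      rw [e2]; infer_instance
  have haff' : IsAffineOpen (p ⁻¹ᵁ P') := by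
    have : IsAffine UP.toScheme := haff
    exact (IsAffine.of_isIso gP.isoOpensRange.hom : IsAffine (p ⁻¹ᵁ P').toScheme)
  -- test on the local scheme at `z`
  refine SDiv28.Punctured.dim_le_one_of_isAffine _ ?_
  have hrz : Set.range (X.fromSpecStalk z) ⊆ Set.range X₀.ι := by
    rintro _ ⟨q, rfl⟩
    rw [Scheme.Opens.range_ι]
    exact ((Scheme.range_fromSpecStalk (x := z)).le ⟨q, rfl⟩ : X.fromSpecStalk z q ⤳ z).mem_open X₀.2 hzX₀
  let a : Spec (X.presheaf.stalk z) ⟶ X₀.toScheme := IsOpenImmersion.lift X₀.ι (X.fromSpecStalk z) hrz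
  let k : Spec (X.presheaf.stalk z) ⟶ XP := sq.lift a (Spec.map (g.stalkMap z)) (by
    rw [← Category.assoc, IsOpenImmersion.lift_fac, Scheme.SpecMap_stalkMap_fromSpecStalk])
  have hkp : k ≫ p = Spec.map (g.stalkMap z) := sq.lift_snd _ _ _
  have : IsAffineHom k := isAffineHom_of_isAffine k
  have hpre : k ⁻¹ᵁ (p ⁻¹ᵁ P') = FEt.puncturedSpec (X.presheaf.stalk z) := by
    rw [← Scheme.Hom.comp_preimage, hkp]
    refine Opens.ext (Set.ext fun q => ?_)
    show Spec.map (g.stalkMap z) q ≠ closedPoint _ ↔ q ≠ closedPoint _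
    constructor
    · rintro h rfl
      exact h (IsLocalRing.comap_closedPoint (g.stalkMap z).hom)
    · intro hq he
      have h1 : g (X.fromSpecStalk z q) = g z := by
        rw [← Scheme.Hom.comp_apply, ← Scheme.SpecMap_stalkMap_fromSpecStalk, Scheme.Hom.comp_apply, he]
        exact Scheme.fromSpecStalk_closedPoint
      have h2 := hmax _ h1 ((Scheme.range_fromSpecStalk (x := z)).le ⟨q, rfl⟩)
      exact hq ((X.fromSpecStalk z).isEmbedding.injective (h2.trans Scheme.fromSpecStalk_closedPoint.symm))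
  exact hpre ▸ haff'.preimage k

end Groth.Agent.Pur21Lib
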