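import Mathlib
import Groth.Agent.Pur21Lib.ExceptionalFibre
import Groth.Agent.Pur21Lib.Birational

/-!
# Components of the non-local-isomorphism locus (EGA IV 21.12.12)
-/

set_option autoImplicit false
set_option backward.isDefEq.respectTransparency.types false

universe u

open CategoryTheory Limits AlgebraicGeometry TopologicalSpace IsLocalRing

namespace Groth.Agent.Pur21Lib

variable {X Y : Scheme.{u}}

theorem exists_isLocalIso_iff [IsLocallyNoetherian Y] (g : X ⟶ Y) [LocallyOfFiniteType g] (x : X) :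
    (∃ W : X.Opens, x ∈ W ∧ IsLocalIso (W.ι ≫ g)) ↔ IsIso (g.stalkMap x) := by
  constructor
  · rintro ⟨W, hxW, hW⟩
    obtain ⟨U, hU, hUi⟩ := hW.exists_isOpenImmersion ⟨x, hxW⟩
    have h1 := isIso_stalkMap_of_isOpenImmersion_ι_comp (W.ι ≫ g) U _ hU
    rw [Scheme.Hom.stalkMap_comp] at h1
    have h2 : IsIso (W.ι.stalkMap (⟨x, hxW⟩ : W)) := inferInstance
    exact @IsIso.of_isIso_comp_right _ _ _ _ _ (g.stalkMap x) (W.ι.stalkMap (⟨x, hxW⟩ : W)) h2 h1
  · intro h
    obtain ⟨W, hxW, hW⟩ := (isIso_stalkMap_of_mem g x).2 h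
    exact ⟨W, hxW, ⟨fun y => ⟨⊤, trivial, inferInstance⟩⟩⟩

/-- In a locally Noetherian space, a closed point without generizations is open. -/
theorem isOpen_singleton_of_isolated {Z : Type*} [TopologicalSpace Z] [NoetherianSpace Z] [QuasiSober Z] [T0Space Z]
    (z : Z) (hgen : ∀ y, y ⤳ z → y = z) (hcl : ∀ y, z ⤳ y → y = z) : IsOpen ({z} : Set Z) := by
  have hfin : (irreducibleComponents Z).Finite := NoetherianSpace.finite_irreducibleComponents
  have hc : IsClosed (⋃ C ∈ irreducibleComponents Z \ {{z}}, C) :=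
    (hfin.diff).isClosed_biUnion fun C hC => isClosed_of_mem_irreducibleComponents C hC.1
  convert hc.isOpen_compl using 1
  ext y
  simp only [Set.mem_singleton_iff, Set.mem_compl_iff, Set.mem_iUnion, exists_prop, not_exists, not_and, Set.mem_sdiff]
  constructor
  · rintro rfl C hC hyC
    have hirr : IsIrreducible C := hC.1.1
    have hgp := hirr.isGenericPoint_genericPoint (isClosed_of_mem_irreducibleComponents C hC.1)
    have h := hgen _ (hgp.specializes hyC)
    refine hC.2 (Set.eq_singleton_iff_unique_mem.2 ⟨hyC, fun a ha => hcl a ?_⟩)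
    exact h ▸ hgp.specializes ha
  · intro h
    by_contra hy
    obtain ⟨C, hC, hyC⟩ := Set.mem_sUnion.1 ((sUnion_irreducibleComponents (X := Z)).ge (Set.mem_univ y))
    exact h C ⟨hC, fun e => hy (by rw [e] at hyC; exact hyC)⟩ hyC

theorem isolated_in_fibre [IsLocallyNoetherian Y] (g : X ⟶ Y) [LocallyOfFiniteType g] (z : X)
    (hgen : ∀ z' : X, g z' = g z → z' ⤳ z → z' = z) (hcl : ∀ z' : X, g z' = g z → z ⤳ z' → z' = z) :
    ∃ O : X.Opens, z ∈ O ∧ ∀ z' : X, z' ∈ O → g z' = g z → z' = z := by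
  let F := g.fiber (g z)
  let ι := g.fiberι (g z)
  have : LocallyOfFiniteType (g.fiberToSpecResidueField (g z)) :=
    MorphismProperty.pullback_snd _ _ inferInstance
  have : IsLocallyNoetherian F := LocallyOfFiniteType.isLocallyNoetherian (g.fiberToSpecResidueField (g z))
  obtain ⟨x₀, hx₀⟩ : ∃ x₀, ι x₀ = z := ⟨g.asFiber z, g.fiberι_asFiber z⟩
  have hover : ∀ a : F, g (ι a) = g z := fun a => (g.range_fiberι (g z)).le ⟨a, rfl⟩
  obtain ⟨W, hW, hxW, -⟩ := exists_isAffineOpen_mem_and_subset (x := x₀) (U := ⊤) trivial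
  have : IsAffine W.toScheme := hW
  have : IsNoetherianRing Γ(F, W) := IsLocallyNoetherian.component_noetherian ⟨W, hW⟩
  have : NoetherianSpace W.toScheme := noetherianSpace_of_isAffineOpen W hW
  have hopen : IsOpen ({⟨x₀, hxW⟩} : Set W.toScheme) := by
    refine isOpen_singleton_of_isolated _ (fun y hy => ?_) (fun y hy => ?_)
    · refine (W.ι ≫ ι).isEmbedding.injective ?_
      show ι y.1 = ι x₀
      rw [hx₀]
      have h1 : ι y.1 ⤳ ι x₀ := hy.map (W.ι ≫ ι).continuous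
      exact hgen _ (hover _) (by rwa [hx₀] at h1)
    · refine (W.ι ≫ ι).isEmbedding.injective ?_
      show ι y.1 = ι x₀
      rw [hx₀]
      have h1 : ι x₀ ⤳ ι y.1 := hy.map (W.ι ≫ ι).continuous
      exact hcl _ (hover _) (by rwa [hx₀] at h1)
  have hopen' : IsOpen ({x₀} : Set F) := by
    have := W.ι.isOpenEmbedding.isOpenMap _ hopen
    rwa [Set.image_singleton] at this
  obtain ⟨O, hO, hOx⟩ := ι.isEmbedding.isInducing.isOpen_iff.1 hopen'
  refine ⟨⟨O, hO⟩, ?_, fun z' hz' hzz => ?_⟩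
  · have : x₀ ∈ ι ⁻¹' O := hOx.symm ▸ rfl
    exact hx₀ ▸ this
  · obtain ⟨a, rfl⟩ := (g.range_fiberι (g z)).ge (show z' ∈ g ⁻¹' {g z} from hzz)
    have : a ∈ ({x₀} : Set F) := hOx ▸ hz'
    rw [Set.mem_singleton_iff] at this
    rw [this, hx₀]

/-- EGA IV 21.12.12. -/
theorem dim_le_one_or_isolated [IsLocallyNoetherian X] [IsLocallyNoetherian Y] [IrreducibleSpace X] (g : X ⟶ Y)
    [LocallyOfFiniteType g]
    (hW : ∀ y : Y, (∀ U : (Spec (Y.presheaf.stalk y)).Opens, ∀ hU : U ≤ FEt.puncturedSpec ↑(Y.presheaf.stalk y),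
        (∀ T ∈ irreducibleComponents ↥(FEt.puncturedSpec ↑(Y.presheaf.stalk y)), ¬ Subtype.val '' T ⊆ (U : Set _)) →
        IsAffineHom ((Spec (Y.presheaf.stalk y)).homOfLE hU) → IsAffineOpen U))
    (z : X) (hz : ¬ IsIso (g.stalkMap z))
    (hmax : ∀ z' : X, ¬ IsIso (g.stalkMap z') → z' ⤳ z → z' = z) :
    ringKrullDim ↑(X.presheaf.stalk z) ≤ 1 ∨
      ∃ O : X.Opens, z ∈ O ∧ ∀ z' : X, z' ∈ O → g z' = g z → z' = z := by
  classical
  -- no proper generization of `z` in its fibre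
  have hfib : ∀ z' : X, g z' = g z → z' ⤳ z → z' = z := by
    intro z' hz' hsp
    by_contra hne
    have hiso : IsIso (g.stalkMap z') := by_contra fun h => hne (hmax z' h hsp)
    obtain ⟨W, hzW, hWi⟩ := (isIso_stalkMap_of_mem g z').2 hiso
    have h1 : (W.ι ≫ g).QuasiFiniteAt ⟨z', hzW⟩ := (W.ι ≫ g).quasiFiniteAt _
    rw [Scheme.Hom.quasiFiniteAt_comp_iff_of_isOpenImmersion] at h1
    have h2 : IsClosed ({g.asFiber z'} : Set _) := (Scheme.Hom.QuasiFiniteAt.isClopen_singleton_asFiber (f := g) (x := z') h1).1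
    obtain ⟨a, ha⟩ := (g.range_fiberι (g z')).ge (show z ∈ g ⁻¹' {g z'} from hz'.symm)
    have h3 : g.asFiber z' ⤳ a := by
      rw [← (g.fiberι (g z')).isEmbedding.isInducing.specializes_iff, ha, g.fiberι_asFiber]
      exact hsp
    have h4 : a = g.asFiber z' := h3.mem_closed h2 rfl
    exact hne (by rw [← ha, h4, g.fiberι_asFiber])
  by_cases hw : ∃ w, g w = g z ∧ z ⤳ w ∧ w ≠ z
  swap
  · right
    push Not at hw
    exact isolated_in_fibre g z hfib hw
  obtain ⟨w, hwz, hzw, hne⟩ := hw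
  left
  by_cases hgen : ∀ η : X, η ⤳ z → η = z
  · rw [← maximalIdeal_height_eq_ringKrullDim]
    refine le_trans (le_of_eq ?_) zero_le_one
    refine WithBot.coe_eq_zero.2 (Ideal.height_eq_zero_iff.2 ⟨⟨inferInstance, bot_le⟩, fun q hq _ => ?_⟩)
    have hqe : (⟨q, hq.1⟩ : Spec (X.presheaf.stalk z)) = closedPoint _ :=
      (X.fromSpecStalk z).isEmbedding.injective
        ((hgen _ ((Scheme.range_fromSpecStalk (x := z)).le ⟨_, rfl⟩)).trans Scheme.fromSpecStalk_closedPoint.symm)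
    exact (congr($(hqe).asIdeal) : q = maximalIdeal _).ge
  -- separate `z` from the other components of the exceptional locus
  obtain ⟨X', hX', hzX', -⟩ := exists_isAffineOpen_mem_and_subset (x := z) (U := ⊤) trivial
  have : IsAffine X'.toScheme := hX'
  have : IsNoetherianRing Γ(X, X') := IsLocallyNoetherian.component_noetherian ⟨X', hX'⟩
  have : NoetherianSpace X'.toScheme := noetherianSpace_of_isAffineOpen X' hX'
  let T : Set X'.toScheme := {a | ¬ IsIso (g.stalkMap a.1)}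
  have hTc : IsClosed T := by
    rw [← isOpen_compl_iff, isOpen_iff_forall_mem_open]
    intro a ha
    simp only [T, Set.mem_compl_iff, Set.mem_ofPred_eq, not_not] at ha
    obtain ⟨W, haW, hW'⟩ := (isIso_stalkMap_of_mem g _).2 ha
    exact ⟨X'.ι ⁻¹' W, fun b hb hb' => hb' (isIso_stalkMap_of_isOpenImmersion_ι_comp g W b.1 hb),
      W.2.preimage X'.ι.continuous, haW⟩
  obtain ⟨S, hSf, hSc, hSi, hST⟩ := NoetherianSpace.exists_finite_set_isClosed_irreducible hTc
  let zz : X'.toScheme := ⟨z, hzX'⟩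
  let Bad : Set X'.toScheme := ⋃ C ∈ S \ {C | zz ∈ C}, C
  have hBad : IsClosed Bad := hSf.diff.isClosed_biUnion fun C hC => hSc C hC.1
  let X₁ : X.Opens := X'.ι ''ᵁ ⟨Badᶜ, hBad.isOpen_compl⟩
  have hzX₁ : z ∈ X₁ := ⟨zz, by
    simp only [Bad]
    intro h
    obtain ⟨C, hC, hzC⟩ := Set.mem_iUnion₂.1 h
    exact hC.2 hzC, rfl⟩
  have hX₁T : ∀ x ∈ X₁, ¬ IsIso (g.stalkMap x) → z ⤳ x := by
    rintro _ ⟨a, ha, rfl⟩ hna
    have haT : a ∈ T := hna
    rw [hST] at haT
    obtain ⟨C, hC, haC⟩ := haT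
    have hzC : zz ∈ C := by_contra fun h => ha (Set.mem_biUnion ⟨hC, h⟩ haC)
    have hgp := (hSi C hC).isGenericPoint_genericPoint (hSc C hC)
    have hζT : (hSi C hC).genericPoint ∈ T := hST ▸ Set.mem_sUnion_of_mem hgp.mem hC
    have heq := hmax _ hζT ((hgp.specializes hzC).map X'.ι.continuous)
    show zz.1 ⤳ _
    rw [← show (hSi C hC).genericPoint = zz from Subtype.ext heq]
    exact (hgp.specializes haC).map X'.ι.continuous
  have hV0 : IsOpen {x : X | x ∈ X₁ ∧ IsIso (g.stalkMap x)} := by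
    rw [isOpen_iff_forall_mem_open]
    rintro x ⟨hx, hxi⟩
    obtain ⟨W, hxW, hW'⟩ := (isIso_stalkMap_of_mem g _).2 hxi
    exact ⟨(X₁ ⊓ W : X.Opens), fun b hb => ⟨hb.1, isIso_stalkMap_of_isOpenImmersion_ι_comp g W b hb.2⟩,
      (X₁ ⊓ W).2, hx, hxW⟩
  let V : X.Opens := ⟨_, hV0⟩
  have hX₁le : X₁ ≤ X' := by rintro _ ⟨a, -, rfl⟩; exact a.2
  have : IsSeparated (X₁.ι ≫ g) := by
    have h1 : IsSeparated ((X₁.ι ≫ g) ≫ terminal.from Y) := by
      rw [show (X₁.ι ≫ g) ≫ terminal.from Y = X.homOfLE hX₁le ≫ terminal.from X'.toScheme from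
        terminal.hom_ext _ _]
      infer_instance
    exact IsSeparated.of_comp (X₁.ι ≫ g) (terminal.from Y)
  have hinj : ∀ a ∈ V, ∀ b ∈ V, g a = g b → a = b := by
    intro a ha b hb hab
    have hst : ∀ c (hc : c ∈ V), IsIso ((X₁.ι ≫ g).stalkMap ⟨c, hc.1⟩) := fun c hc => by
      rw [Scheme.Hom.stalkMap_comp]
      exact @IsIso.comp_isIso _ _ _ _ _ (g.stalkMap _) (X₁.ι.stalkMap _) hc.2 inferInstance
    have : Nonempty X₁.toScheme := ⟨⟨z, hzX₁⟩⟩
    have hirr : IrreducibleSpace X₁.toScheme := {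
      toPreirreducibleSpace := ⟨(PreirreducibleSpace.isPreirreducible_univ (X := X)).preimage X₁.ι.isOpenEmbedding⟩
      toNonempty := inferInstance }
    exact congrArg Subtype.val (VarietyLib.eq_of_isIso_stalkMap (X₁.ι ≫ g) (fun η η' h h' _ => by
      rw [irreducibleComponents_eq_singleton, Set.mem_singleton_iff] at h h'
      exact IsGenericPoint.eq (show IsGenericPoint η Set.univ from h) (show IsGenericPoint η' Set.univ from h'))
      (hst a ha) (hst b hb) hab)
  have hVi : IsOpenImmersion (V.ι ≫ g) := by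
    have hst : ∀ c : V.toScheme, IsIso ((V.ι ≫ g).stalkMap c) := fun c => by
      rw [Scheme.Hom.stalkMap_comp]
      exact @IsIso.comp_isIso _ _ _ _ _ (g.stalkMap _) (V.ι.stalkMap _) c.2.2 inferInstance
    have : IsLocalIso (V.ι ≫ g) := isLocalIso_of_forall_isIso_stalkMap _ hst
    have : UniversallyOpen (V.ι ≫ g) := IsLocalIso.le_of_isZariskiLocalAtSource @UniversallyOpen _ _ _ ‹_›
    exact IsOpenImmersion.of_isIso_stalkMap _ (Topology.IsOpenEmbedding.of_continuous_injective_isOpenMap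
      (V.ι ≫ g).continuous (fun a b h => Subtype.ext (hinj a.1 a.2 b.1 b.2 h)) (V.ι ≫ g).isOpenMap)
  refine dim_le_one_of_not_closed_in_fibre g z (hW (g z)) hfib V X₁ hzX₁ (fun x hx hsp hx_ne => ⟨hx, ?_⟩)
    w hwz hzw hne
  by_contra h
  exact hx_ne ((hsp.antisymm ((hX₁T x hx h).map g.continuous)).eq)

end Groth.Agent.Pur21Lib
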